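import Cfsg.Agent.H106.RC.Cover

/-!
# S3510, row C (`PSL₂(q)`): the interface (helper183)

* `Acts e g A σ` : for an isomorphism `e : N ≃* PSL₂(F)`, the element `g` of `G` acts on `N` by conjugation as the
  semilinear map `(A, σ)` : `s ↦ A σ(s) A⁻¹`;
* `NoEig A` : `A` has no eigenvector;
* `FixL A σ v` : the line of `v` is invariant under `v ↦ A σ(v)`.
-/

set_option autoImplicit false

open Cfsg Matrix

namespace Cfsg.Agent.H183.RC

/-- `PSL₂(F)` -/
abbrev PS (F : Type*) [Field F] := Matrix.ProjectiveSpecialLinearGroup (Fin 2) F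

/-- `SL₂(F)` -/
abbrev SL (F : Type*) [Field F] := Matrix.SpecialLinearGroup (Fin 2) F

/-- `g` acts on `N` as `s ↦ A σ(s) A⁻¹` -/
def Acts {G F : Type*} [Group G] [Field F] {N : Subgroup G} (e : N ≃* PS F) (g : G) (A : GL (Fin 2) F)
    (σ : F ≃+* F) : Prop :=
  ∀ (n n' : N) (s s' : SL F), (n' : G) = g * n * g⁻¹ →
    (s' : Matrix (Fin 2) (Fin 2) F) = (A : Matrix (Fin 2) (Fin 2) F) * (s : Matrix (Fin 2) (Fin 2) F).map σ *
      ((A⁻¹ : GL (Fin 2) F) : Matrix (Fin 2) (Fin 2) F) →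
    e n = QuotientGroup.mk s → e n' = QuotientGroup.mk s'

/-- the entrywise image of `B` -/
abbrev gmap {F : Type*} [Field F] (σ : F ≃+* F) (B : GL (Fin 2) F) : GL (Fin 2) F :=
  Matrix.GeneralLinearGroup.map (σ : F →+* F) B

/-- `A` has no eigenvector -/
def NoEig {F : Type*} [Field F] (A : GL (Fin 2) F) : Prop :=
  ∀ (c : F) (v : Fin 2 → F), v ≠ 0 → (A : Matrix (Fin 2) (Fin 2) F) *ᵥ v ≠ c • v

/-- the line of `v` is invariant under `(A, σ)` -/
def FixL {F : Type*} [Field F] (A : GL (Fin 2) F) (σ : F ≃+* F) (v : Fin 2 → F) : Prop :=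
  ∃ c : F, (A : Matrix (Fin 2) (Fin 2) F) *ᵥ (fun i => σ (v i)) = c • v

end Cfsg.Agent.H183.RC
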