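import Cfsg.Agent.H183.RC.Uni
import Cfsg.Agent.H202.RC.Orbit
import Cfsg.Agent.H588.RC.Count

/-!
# S3510, row C, part C: commuting elements with a common fixed line do not cover (helper183)
-/

set_option autoImplicit false

namespace Cfsg.Agent.H183.RC

open Cfsg Matrix Cfsg.Agent.H106.RC

section part

variable {G Ω F ι : Type*} [Group G] [Field F] {N : Subgroup G}

/-- powers -/
theorem exists_acts_pow (hN : N.Normal) {e : N ≃* PS F} {g : G} {A : GL (Fin 2) F} {σ : F ≃+* F}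
    (h : Acts e g A σ) (n : ℕ) : ∃ B : GL (Fin 2) F, Acts e (g ^ n) B (σ ^ n) := by
  induction n with
  | zero => exact ⟨1, by rw [pow_zero, pow_zero]; exact acts_one e⟩
  | succ n ih =>
    obtain ⟨B, hB⟩ := ih
    exact ⟨_, by rw [pow_succ, pow_succ]; exact acts_mul hN hB h⟩

theorem sigma_pow [Finite F] (hN : N.Normal) {e : N ≃* PS F} (h4 : 4 ≤ Nat.card F) {g : G} {A : GL (Fin 2) F}
    {σ : F ≃+* F} (h : Acts e g A σ) {n : ℕ} (hn : g ^ n = 1) : σ ^ n = 1 := by
  obtain ⟨B, hB⟩ := exists_acts_pow hN h n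
  rw [hn] at hB
  exact (acts_uniq hN h4 hB (acts_one e)).1

theorem partI_aux [Finite G] [MulAction G Ω] [Nonempty Ω] [Finite F]
    (hE : Env G Ω N) (e : N ≃* PS F) (h7 : 7 ≤ Nat.card F) (h9 : Nat.card F ≠ 9)
    [Finite ι] (x : ι → G) (r : ι → ℕ) (A : ι → GL (Fin 2) F) (σ : ι → F ≃+* F)
    (hA : ∀ i, Acts e (x i) (A i) (σ i)) (hr : ∀ i, (r i).Prime) (hx : ∀ i, x i ^ r i = 1)
    (hx1 : ∀ i, x i ≠ 1) (hc : ∀ i j, x i * x j = x j * x i)
    (hp : ∀ i j, r i = ringChar F → r j = ringChar F → i = j)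
    (hs : ∀ i j, σ i ≠ 1 → σ j ≠ 1 → r i = r j → i = j)
    (h10 : ∀ i, (A i : Matrix (Fin 2) (Fin 2) F) 1 0 = 0)
    (hcov : ∀ ω : Ω, ∃ i, x i • ω = ω) : False := by
  classical
  have hN := hE.norm
  have h4 : 4 ≤ Nat.card F := by omega
  obtain ⟨T, hT1, hT2, hT3⟩ := exists_trace F
  -- the point
  obtain ⟨ω, hω⟩ : ∃ ω : Ω, (un e 1 : G) • ω ≠ ω := hE.exists_move (un_one_ne e)
  let K₀ : AddSubgroup F :=
    { carrier := {b | (un e b : G) • ω = ω}
      zero_mem' := by
        change (un e 0 : G) • ω = ω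
        rw [un_zero, one_smul]
      add_mem' := by
        intro a b ha hb
        change (un e (a + b) : G) • ω = ω
        rw [un_add, mul_smul, hb, ha]
      neg_mem' := by
        intro a ha
        change (un e (-a) : G) • ω = ω
        rw [un_neg, inv_smul_eq_iff]
        exact ha.symm }
  have hK₀ : K₀ ≠ ⊤ := by
    intro h
    apply hω
    have : (1 : F) ∈ K₀ := by rw [h]; trivial
    exact this
  obtain ⟨c, hc0, hcK⟩ := hT3 K₀ hK₀
  set a : ι → F := fun i => (A i : Matrix (Fin 2) (Fin 2) F) 0 0 / (A i : Matrix (Fin 2) (Fin 2) F) 1 1 with ha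
  let KT : AddSubgroup F := T.ker
  have hKT : KT ≠ ⊤ := by
    intro h
    apply one_ne_zero (α := F)
    apply hT2 1
    intro b
    have : 1 * b ∈ KT := by rw [h]; trivial
    exact this
  let κ : Type _ := {i : ι // σ i ≠ 1}
  have hp' : (ringChar F).Prime :=
    (CharP.char_is_prime_or_zero F (ringChar F)).resolve_right (CharP.char_ne_zero_of_finite F (ringChar F))
  -- `u ^ p = 1`
  have hup : ∀ b : F, (un e b : G) ^ ringChar F = 1 := by
    intro b
    have h1 : ∀ n : ℕ, (un e b : G) ^ n = un e (n * b) := by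
      intro n
      induction n with
      | zero => rw [pow_zero, Nat.cast_zero, zero_mul, un_zero]
      | succ n ih => rw [pow_succ, ih, ← un_add]; congr 1; push_cast; ring
    rw [h1, ringChar.Nat.cast_ringChar, zero_mul, un_zero]
  have hrp : ∀ i x₀, x i = un e x₀ → r i = ringChar F := by
    intro i x₀ h
    by_contra hne
    have hcop : Nat.Coprime (r i) (ringChar F) := (Nat.coprime_primes (hr i) hp').2 hne
    apply hx1 i
    have h1 := hup x₀
    rw [← h] at h1
    have h2 : orderOf (x i) ∣ 1 := by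
      rw [← hcop]
      exact Nat.dvd_gcd (orderOf_dvd_of_pow_eq_one (hx i)) (orderOf_dvd_of_pow_eq_one h1)
    exact orderOf_eq_one_iff.1 (Nat.dvd_one.1 h2)
  -- the good multiple
  have hcount := Cfsg.Agent.H588.RC.count h7 h9 (fun i : κ => σ i) (fun i : κ => a i) (fun i : κ => r i) (fun i => hr i) (fun i => i.2)
    (fun i => sigma_pow hN h4 (hA i) (hx i)) (fun i j hij => Subtype.ext (hs i j i.2 j.2 hij)) c hc0
  obtain ⟨s, hs0, hs1, hs2⟩ : ∃ s : F, s ≠ 0 ∧ (∀ i, σ i ≠ 1 → σ i (c * s ^ 2) ≠ a i * (c * s ^ 2)) ∧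
      ∀ i, ∀ x₀ : F, x i = un e x₀ → T (c * s ^ 2 * x₀) ≠ 0 := by
    by_cases hex : ∃ i x₀, x i = un e x₀
    · obtain ⟨i₀, x₀, hx₀⟩ := hex
      have hx00 : x₀ ≠ 0 := by
        rintro rfl
        rw [un_zero] at hx₀
        exact hx1 _ hx₀
      have hi₀ : σ i₀ = 1 := by
        have h1 : Acts e (un e x₀ : G) (Matrix.SpecialLinearGroup.toGL (us x₀)) 1 :=
          acts_mem _ _ (e.apply_symm_apply _)
        have h2 := hA i₀
        rw [hx₀] at h2
        exact (acts_uniq hN h4 h2 h1).1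
      obtain ⟨s, h1, h2, h3⟩ := hcount.2 (fun i hi => i.2 (by
        have := hp i i₀ hi (hrp i₀ x₀ hx₀)
        rw [this]; exact hi₀)) KT hKT x₀ hx00
      refine ⟨s, h1, fun i hi => h2 ⟨i, hi⟩, ?_⟩
      intro i y hy
      have hii : i = i₀ := hp _ _ (hrp i y hy) (hrp i₀ x₀ hx₀)
      subst hii
      -- `y = x₀` up to the kernel of `un`
      have hinj : y = x₀ := by
        have h4' : (un e (y - x₀) : G) = 1 := by
          rw [sub_eq_add_neg, un_add, un_neg, ← hy, ← hx₀, mul_inv_cancel]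
        by_contra hne
        have hd : y - x₀ ≠ 0 := sub_ne_zero.2 hne
        -- conjugate by anything: use the uniqueness of the matrix
        have h5 : Acts e (un e (y - x₀) : G) (Matrix.SpecialLinearGroup.toGL (us (y - x₀))) 1 :=
          acts_mem _ _ (e.apply_symm_apply _)
        rw [h4'] at h5
        obtain ⟨-, d, hd0, hd1⟩ := acts_uniq hN h4 (acts_one e) h5
        have h6 := congrFun (congrFun hd1 0) 1
        have h7' : (y - x₀ : F) = d * (1 : Matrix (Fin 2) (Fin 2) F) 0 1 := h6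
        rw [Matrix.one_apply_ne (by decide), mul_zero] at h7'
        exact hd h7'
      rw [hinj]
      exact h3
    · push Not at hex
      obtain ⟨s, h1, h2⟩ := hcount.1
      exact ⟨s, h1, fun i hi => h2 ⟨i, hi⟩, fun i x₀ h => (hex i x₀ h).elim⟩
  -- the orbit
  have hs0' : s⁻¹ ≠ 0 := inv_ne_zero hs0
  let U : Subgroup G := (unH e : Multiplicative F →* G).range
  have hUm : ∀ b : F, (un e b : G) ∈ U := fun b => ⟨Multiplicative.ofAdd b, rfl⟩
  have hUm' : ∀ u ∈ U, ∃ b : F, u = un e b := by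
    rintro _ ⟨b, rfl⟩
    exact ⟨Multiplicative.toAdd b, rfl⟩
  obtain ⟨i, hi⟩ := Cfsg.Agent.H202.RC.cover hr hx hc hcov (U := U) (by
    intro i u hu
    obtain ⟨b, rfl⟩ := hUm' u hu
    rw [acts_un hN (hA i) (h10 i)]
    exact hUm _) (Or.inl ⟨by
      intro u hu v hv
      obtain ⟨b, rfl⟩ := hUm' u hu
      obtain ⟨b', rfl⟩ := hUm' v hv
      rw [← un_add, ← un_add, add_comm], by
      have key : ∀ i, ¬ (r i).Coprime (Nat.card U) → r i = ringChar F := by
        intro i hi
        have h1 : r i ∣ Nat.card U := by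
          by_contra h
          exact hi (((hr i).coprime_iff_not_dvd).2 h)
        have h2 : Nat.card U ∣ Nat.card F := Subgroup.card_range_dvd (unH e : Multiplicative F →* G)
        obtain ⟨n, hn⟩ : ∃ n : ℕ, Nat.card F = ringChar F ^ n := by
          have := Fintype.ofFinite F
          obtain ⟨n, -, hn⟩ := FiniteField.card F (ringChar F)
          exact ⟨n, by rw [Nat.card_eq_fintype_card, hn]⟩
        rw [hn] at h2
        exact (Nat.prime_dvd_prime_iff_eq (hr i) hp').1 ((hr i).dvd_of_dvd_pow (h1.trans h2))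
      intro i j h1 h2
      exact hp i j (key i h1) (key j h2)⟩) ((dn e s⁻¹ hs0' : G) • ω)
  set ω' : Ω := (dn e s⁻¹ hs0' : G) • ω with hω'
  -- the stabiliser of `ω'`
  have hst : ∀ b : F, (un e b : G) • ω' = ω' → T (c * s ^ 2 * b) = 0 := by
    intro b hb
    have h1 := dn_un hN e s⁻¹ hs0' (s ^ 2 * b)
    have h2 : (s⁻¹) ^ 2 * (s ^ 2 * b) = b := by field_simp
    rw [h2] at h1
    rw [hω', ← h1, ← mul_smul, inv_mul_cancel_right, mul_smul] at hb
    have h3 : s ^ 2 * b ∈ K₀ := (MulAction.injective _) hb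
    have h4' := hcK _ h3
    rw [← mul_assoc] at h4'
    exact h4'
  -- the equation
  have hfix : x i • ω' = ω' := by
    have := hi 1 U.one_mem
    rwa [one_smul] at this
  have hall : ∀ b : F, T (c * s ^ 2 * (a i * σ i b - b)) = 0 := by
    intro b
    apply hst
    have h1 := hi _ (hUm b)
    have h2 : (x i * un e b * (x i)⁻¹) • ω' = (un e b : G) • ω' := by
      rw [mul_smul, inv_smul_eq_iff.2 hfix.symm, mul_smul, h1]
    rw [acts_un hN (hA i) (h10 i)] at h2
    rw [sub_eq_add_neg, add_comm, un_add, un_neg, mul_smul, inv_smul_eq_iff]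
    exact h2
  by_cases hσ : σ i = 1
  · have h1 : a i = 1 := by
      have h2 : c * s ^ 2 * (a i - 1) = 0 := by
        apply hT2
        intro b
        have h3 := hall b
        rw [hσ] at h3
        have h4' : c * s ^ 2 * (a i - 1) * b = c * s ^ 2 * (a i * (1 : F ≃+* F) b - b) := by
          change _ = c * s ^ 2 * (a i * b - b)
          ring
        rw [h4']
        exact h3
      have h3 : c * s ^ 2 ≠ 0 := mul_ne_zero hc0 (pow_ne_zero 2 hs0)
      exact sub_eq_zero.1 ((mul_eq_zero.1 h2).resolve_left h3)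
    have h2 : (A i : Matrix (Fin 2) (Fin 2) F) 0 0 = (A i : Matrix (Fin 2) (Fin 2) F) 1 1 := by
      have := (diag_ne (h10 i)).2
      rw [ha] at h1
      exact (div_eq_one_iff_eq this).1 h1
    have hA' := hA i
    rw [hσ] at hA'
    have h3 := eq_un hN hE.cent hA' (h10 i) h2
    apply hs2 i _ h3
    apply hst
    rw [← h3]
    exact hfix
  · apply hs1 i hσ
    have h1 : (σ i)⁻¹ (c * s ^ 2 * a i) - c * s ^ 2 = 0 := by
      apply hT2
      intro b
      have h2 := hall b
      have h3 : T ((σ i)⁻¹ (c * s ^ 2 * a i) * b) = T (c * s ^ 2 * (a i * σ i b)) := by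
        rw [← hT1 (σ i), map_mul]
        congr 1
        have h4' : (σ i) ((σ i)⁻¹ (c * s ^ 2 * a i)) = c * s ^ 2 * a i := (σ i).apply_symm_apply _
        rw [h4']
        ring
      rw [sub_mul, map_sub, h3, ← map_sub]
      rw [← h2]
      congr 1
      ring
    have h2 : (σ i)⁻¹ (c * s ^ 2 * a i) = c * s ^ 2 := sub_eq_zero.1 h1
    have h3 := congrArg (σ i) h2
    have h4' : (σ i) ((σ i)⁻¹ (c * s ^ 2 * a i)) = c * s ^ 2 * a i := (σ i).apply_symm_apply _
    rw [h4'] at h3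
    rw [← h3, mul_comm]

end part

theorem partI {G Ω F ι : Type*} [Group G] [Finite G] [MulAction G Ω] [Nonempty Ω] [Field F] [Finite F]
    {N : Subgroup G} (hE : Env G Ω N) (e : N ≃* PS F) (h7 : 7 ≤ Nat.card F) (h9 : Nat.card F ≠ 9)
    [Finite ι] (x : ι → G) (r : ι → ℕ) (A : ι → GL (Fin 2) F) (σ : ι → F ≃+* F)
    (hA : ∀ i, Acts e (x i) (A i) (σ i)) (hr : ∀ i, (r i).Prime) (hx : ∀ i, x i ^ r i = 1)
    (hx1 : ∀ i, x i ≠ 1) (hc : ∀ i j, x i * x j = x j * x i)
    (hp : ∀ i j, r i = ringChar F → r j = ringChar F → i = j)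
    (hs : ∀ i j, σ i ≠ 1 → σ j ≠ 1 → r i = r j → i = j)
    (v : Fin 2 → F) (hv : v ≠ 0) (hfix : ∀ i, FixL (A i) (σ i) v) : ∃ ω : Ω, ∀ i, x i • ω ≠ ω := by
  classical
  by_contra hcon
  push Not at hcon
  -- a matrix moving `v` to the first basis vector
  obtain ⟨P, hP⟩ : ∃ P : GL (Fin 2) F, (P : Matrix (Fin 2) (Fin 2) F) *ᵥ v = ![1, 0] := by
    by_cases h0 : v 0 = 0
    · have h1 : v 1 ≠ 0 := by
        intro h1
        apply hv
        funext i
        fin_cases i
        · exact h0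
        · exact h1
      refine ⟨Matrix.GeneralLinearGroup.mkOfDetNeZero !![0, (v 1)⁻¹; 1, 0] (by simp [Matrix.det_fin_two, h1]), ?_⟩
      change !![0, (v 1)⁻¹; 1, 0] *ᵥ v = _
      funext i
      fin_cases i <;> simp [Matrix.mulVec, dotProduct, Fin.sum_univ_two, h0, h1]
    · refine ⟨Matrix.GeneralLinearGroup.mkOfDetNeZero !![(v 0)⁻¹, 0; -(v 1) / v 0, 1]
        (by simp [Matrix.det_fin_two, h0]), ?_⟩
      change !![(v 0)⁻¹, 0; -(v 1) / v 0, 1] *ᵥ v = _
      funext i
      fin_cases i <;> simp [Matrix.mulVec, dotProduct, Fin.sum_univ_two, h0]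
  obtain ⟨e', -, hch⟩ := exists_chg (G := G) e P
  refine partI_aux hE e' h7 h9 x r (fun i => P * A i * (gmap (σ i) P)⁻¹) σ (fun i => hch _ _ _ (hA i)) hr hx hx1 hc hp hs
    ?_ hcon
  intro i
  obtain ⟨d, hd⟩ := fixL_chg (hfix i) P
  rw [hP] at hd
  have h1 : (fun j => σ i ((![1, 0] : Fin 2 → F) j)) = ![1, 0] := by
    funext j
    fin_cases j <;> simp
  rw [h1] at hd
  have h2 := congrFun hd 1
  simpa [Matrix.mulVec, dotProduct, Fin.sum_univ_two] using h2

end Cfsg.Agent.H183.RC
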