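import Cfsg.Agent.H183.RC.Defs
import Cfsg.Agent.ClassicalGeometry.AutPSL.Main

/-!
# S3510, row C: the calculus of `Acts` (helper183)

The action of `G` on `N ≅ PSL₂(F)` as a homomorphism `cn` into the automorphism group, `Acts e g A σ ↔ cn g = lift (cj A * fld σ)`.
-/

set_option autoImplicit false

namespace Cfsg.Agent.H183.RC

open Cfsg Matrix Cfsg.Agent.H106.RC
open Cfsg.Agent.ClassicalGeometry.AutPSL.Root
open Cfsg.Agent.ClassicalGeometry.AutPSL.Auto
open Cfsg.Agent.ClassicalGeometry.AutPSL.Main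

section mat

variable {F : Type*} [Field F]

theorem coe_gmap (σ : F ≃+* F) (B : GL (Fin 2) F) :
    ((gmap σ B : GL (Fin 2) F) : Matrix (Fin 2) (Fin 2) F) = (B : Matrix (Fin 2) (Fin 2) F).map σ := rfl

theorem gmap_one (A : GL (Fin 2) F) : gmap (1 : F ≃+* F) A = A := by
  apply Units.ext
  ext i j
  rfl

theorem gmap_gmap (σ τ : F ≃+* F) (A : GL (Fin 2) F) : gmap σ (gmap τ A) = gmap (σ * τ) A := by
  apply Units.ext
  ext i j
  rfl

theorem fld_mul_cj (σ : F ≃+* F) (A : GL (Fin 2) F) :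
    (fld σ : MulAut (SL F)) * cj A = cj (gmap σ A) * fld σ := by
  apply MulEquiv.ext
  intro g
  apply Subtype.ext
  have h1 : (((gmap σ A)⁻¹ : GL (Fin 2) F) : Matrix (Fin 2) (Fin 2) F) =
      ((A⁻¹ : GL (Fin 2) F) : Matrix (Fin 2) (Fin 2) F).map σ := by
    rw [← map_inv]; rfl
  change ((A : Matrix (Fin 2) (Fin 2) F) * g.1 * ((A⁻¹ : GL (Fin 2) F) : Matrix (Fin 2) (Fin 2) F)).map σ =
    (A : Matrix (Fin 2) (Fin 2) F).map σ * (g.1.map σ) * (((gmap σ A)⁻¹ : GL (Fin 2) F) : Matrix (Fin 2) (Fin 2) F)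
  rw [h1]
  change ((A : Matrix (Fin 2) (Fin 2) F) * g.1 * ((A⁻¹ : GL (Fin 2) F) : Matrix (Fin 2) (Fin 2) F)).map (σ : F →+* F) =
    (A : Matrix (Fin 2) (Fin 2) F).map (σ : F →+* F) * (g.1.map (σ : F →+* F)) *
      ((A⁻¹ : GL (Fin 2) F) : Matrix (Fin 2) (Fin 2) F).map (σ : F →+* F)
  rw [Matrix.map_mul, Matrix.map_mul]

theorem cjfld_mul (σ τ : F ≃+* F) (A B : GL (Fin 2) F) :
    (cj A * fld σ) * (cj B * fld τ) = (cj (A * gmap σ B) * fld (σ * τ) : MulAut (SL F)) := by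
  rw [map_mul cj, map_mul fld, mul_assoc, ← mul_assoc (fld σ), fld_mul_cj]
  simp only [mul_assoc]

theorem cj_smul {A A' : GL (Fin 2) F} (c : F)
    (hA : (A' : Matrix (Fin 2) (Fin 2) F) = c • (A : Matrix (Fin 2) (Fin 2) F)) : cj A' = cj A := by
  have h1 : cj (A' * A⁻¹) = 1 := by
    apply cj_eq_one_of_scalar (r := c)
    rw [Units.val_mul, hA, Matrix.smul_mul, ← Units.val_mul, mul_inv_cancel, Units.val_one]
    ext i j
    rw [Matrix.scalar_apply, Matrix.diagonal_apply, Matrix.smul_apply, Matrix.one_apply]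
    split_ifs <;> simp
  rw [map_mul, map_inv] at h1
  exact mul_inv_eq_one.1 h1

theorem map_mulVec (σ : F ≃+* F) (M : Matrix (Fin 2) (Fin 2) F) (v : Fin 2 → F) :
    (fun i => σ ((M *ᵥ v) i)) = (M.map σ) *ᵥ (fun i => σ (v i)) := by
  funext i
  simp [Matrix.mulVec, dotProduct, Matrix.map_apply]

end mat

section cn

variable {G F : Type*} [Group G] [Field F] {N : Subgroup G}

/-- the action of `g` on `N`, moved to `PSL₂(F)` -/
noncomputable def cn (hN : N.Normal) (e : N ≃* PS F) : G →* MulAut (PS F) :=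
  (MulAut.congr e).toMonoidHom.comp (MulAut.conjNormal (G := G) (H := N))

theorem cn_apply (hN : N.Normal) (e : N ≃* PS F) (g : G) (n : N) :
    cn hN e g (e n) = e ⟨g * n * g⁻¹, hN.conj_mem _ n.2 g⟩ := by
  change e (MulAut.conjNormal g (e.symm (e n))) = _
  rw [e.symm_apply_apply]
  rfl

theorem acts_iff (hN : N.Normal) {e : N ≃* PS F} {g : G} {A : GL (Fin 2) F} {σ : F ≃+* F} :
    Acts e g A σ ↔ cn hN e g = lift (cj A * fld σ) := by
  constructor
  · intro h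
    apply MulEquiv.ext
    intro y
    obtain ⟨n, rfl⟩ := e.surjective y
    obtain ⟨s, hs⟩ := pr_surjective (e n)
    rw [cn_apply, ← hs, lift_pr]
    exact h n ⟨g * n * g⁻¹, hN.conj_mem _ n.2 g⟩ s ((cj A * fld σ : MulAut (SL F)) s) rfl rfl hs.symm
  · intro h n n' s s' hn hs he
    have h1 := cn_apply hN e g n
    rw [he, h] at h1
    have h2 : n' = ⟨g * n * g⁻¹, hN.conj_mem _ n.2 g⟩ := Subtype.ext hn
    rw [h2, ← h1]
    change lift (cj A * fld σ) (pr s) = pr s'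
    rw [lift_pr]
    congr 1
    exact Subtype.ext hs.symm

theorem cn_injective (hN : N.Normal) (hc : Subgroup.centralizer (N : Set G) = ⊥) (e : N ≃* PS F) :
    Function.Injective (cn hN e) := by
  rw [injective_iff_map_eq_one]
  intro g hg
  have h1 : g ∈ Subgroup.centralizer (N : Set G) := by
    rw [Subgroup.mem_centralizer_iff]
    intro n hn
    have h2 := cn_apply hN e g ⟨n, hn⟩
    rw [hg, MulAut.one_apply] at h2
    have h3 := congrArg Subtype.val (e.injective h2)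
    have h4 : n = g * n * g⁻¹ := h3
    calc n * g = (g * n * g⁻¹) * g := by rw [← h4]
      _ = g * n := by group
  rw [hc] at h1
  exact Subgroup.mem_bot.1 h1

theorem acts_exists [Finite F] (hN : N.Normal) (e : N ≃* PS F) (_h4 : 4 ≤ Nat.card F) (g : G) :
    ∃ (A : GL (Fin 2) F) (σ : F ≃+* F), Acts e g A σ := by
  obtain ⟨p, hp⟩ := CharP.exists F
  have hpr : Fact p.Prime := ⟨(CharP.char_is_prime_or_zero F p).resolve_right (CharP.char_ne_zero_of_finite F p)⟩
  have := Fintype.ofFinite F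
  obtain ⟨A, σ, h⟩ := surj_two p (cn hN e g)
  exact ⟨A, σ, (acts_iff hN).2 h⟩

theorem acts_one (e : N ≃* PS F) : Acts e 1 1 1 := by
  intro n n' s s' hn hs he
  have h1 : n' = n := Subtype.ext (by simpa using hn)
  have h2 : s' = s := by
    apply Subtype.ext
    rw [hs]
    have : (s : Matrix (Fin 2) (Fin 2) F).map (1 : F ≃+* F) = s := by
      ext i j
      rfl
    simp
  rw [h1, h2, he]

theorem acts_mul (hN : N.Normal) {e : N ≃* PS F} {g h : G} {A B : GL (Fin 2) F} {σ τ : F ≃+* F}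
    (h1 : Acts e g A σ) (h2 : Acts e h B τ) : Acts e (g * h) (A * gmap σ B) (σ * τ) := by
  rw [acts_iff hN] at h1 h2 ⊢
  rw [map_mul, h1, h2, ← map_mul, cjfld_mul]

theorem acts_pow (hN : N.Normal) {e : N ≃* PS F} {g : G} {A : GL (Fin 2) F}
    (h1 : Acts e g A 1) (n : ℕ) : Acts e (g ^ n) (A ^ n) 1 := by
  rw [acts_iff hN] at h1 ⊢
  rw [map_pow, h1, map_one, mul_one, ← map_pow, ← map_pow, mul_one]

theorem acts_inv (hN : N.Normal) {e : N ≃* PS F} {g : G} {A : GL (Fin 2) F} {σ : F ≃+* F}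
    (h1 : Acts e g A σ) : Acts e g⁻¹ (gmap σ⁻¹ A⁻¹) σ⁻¹ := by
  rw [acts_iff hN] at h1 ⊢
  rw [map_inv, h1, ← map_inv]
  congr 1
  rw [inv_eq_iff_mul_eq_one, cjfld_mul, gmap_gmap, mul_inv_cancel, gmap_one, mul_inv_cancel, map_one, map_one, mul_one]

/-- an element of `N` acts as an inner automorphism -/
theorem acts_mem {e : N ≃* PS F} (n : N) (s : SL F) (h : e n = QuotientGroup.mk s) :
    Acts e (n : G) (Matrix.SpecialLinearGroup.toGL s) 1 := by
  intro m m' u u' hm hu hem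
  have h1 : m' = n * m * n⁻¹ := Subtype.ext hm
  have h2 : u' = s * u * s⁻¹ := by
    apply Subtype.ext
    rw [hu]
    have h3 : (u : Matrix (Fin 2) (Fin 2) F).map (1 : F ≃+* F) = u := by
      ext i j
      rfl
    rw [h3, ← map_inv]
    rfl
  rw [h1, h2, map_mul, map_mul, map_inv, h, hem]
  rfl

/-- scalars do not matter -/
theorem acts_smul {e : N ≃* PS F} {g : G} {A A' : GL (Fin 2) F} {σ : F ≃+* F} (h : Acts e g A σ) (c : F)
    (hA : (A' : Matrix (Fin 2) (Fin 2) F) = c • (A : Matrix (Fin 2) (Fin 2) F)) : Acts e g A' σ := by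
  intro n n' s s' hn hs he
  refine h n n' s s' hn ?_ he
  rw [hs]
  have h1 := congrArg (fun f : MulAut (SL F) => ((f (fld σ s) : SL F) : Matrix (Fin 2) (Fin 2) F)) (cj_smul c hA)
  exact h1

/-- uniqueness -/
theorem acts_uniq [Finite F] (hN : N.Normal) {e : N ≃* PS F} (_h4 : 4 ≤ Nat.card F) {g : G}
    {A A' : GL (Fin 2) F} {σ σ' : F ≃+* F} (h : Acts e g A σ) (h' : Acts e g A' σ') :
    σ = σ' ∧ ∃ c : F, c ≠ 0 ∧ (A' : Matrix (Fin 2) (Fin 2) F) = c • (A : Matrix (Fin 2) (Fin 2) F) := by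
  rw [acts_iff hN] at h h'
  rw [h] at h'
  have h1 : lift (cj (A⁻¹ * A') * fld σ') = lift (fld σ) := by
    rw [map_mul cj, map_inv, mul_assoc, map_mul, ← h', ← map_mul, ← mul_assoc, inv_mul_cancel, one_mul]
  obtain ⟨⟨c, hc⟩, hσ⟩ := injective_aux h1
  refine ⟨hσ.symm, c, ?_, ?_⟩
  · rintro rfl
    have h2 : ((A⁻¹ * A' : GL (Fin 2) F) : Matrix (Fin 2) (Fin 2) F) = 0 := by rw [← hc]; simp
    exact (A⁻¹ * A').ne_zero h2
  · have h2 : (A' : Matrix (Fin 2) (Fin 2) F) =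
        (A : Matrix (Fin 2) (Fin 2) F) * ((A⁻¹ * A' : GL (Fin 2) F) : Matrix (Fin 2) (Fin 2) F) := by
      rw [← Units.val_mul, mul_inv_cancel_left]
    rw [h2, ← hc]
    ext i j
    rw [Matrix.scalar_apply, Matrix.mul_diagonal, Matrix.smul_apply, smul_eq_mul, mul_comm]

/-- injectivity -/
theorem acts_inj (hN : N.Normal) (hc : Subgroup.centralizer (N : Set G) = ⊥) {e : N ≃* PS F} {g g' : G}
    {A : GL (Fin 2) F} {σ : F ≃+* F} (h : Acts e g A σ) (h' : Acts e g' A σ) : g = g' := by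
  rw [acts_iff hN] at h h'
  exact cn_injective hN hc e (h.trans h'.symm)

/-- commuting elements -/
theorem acts_comm [Finite F] (hN : N.Normal) {e : N ≃* PS F} (h4 : 4 ≤ Nat.card F) {g g' : G}
    {A A' : GL (Fin 2) F} {σ σ' : F ≃+* F} (h : Acts e g A σ) (h' : Acts e g' A' σ') (hgg : g * g' = g' * g) :
    σ * σ' = σ' * σ ∧ ∃ c : F, c ≠ 0 ∧ ((A' * gmap σ' A : GL (Fin 2) F) : Matrix (Fin 2) (Fin 2) F) =
      c • ((A * gmap σ A' : GL (Fin 2) F) : Matrix (Fin 2) (Fin 2) F) := by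
  have h1 := acts_mul hN h h'
  have h2 := acts_mul hN h' h
  rw [← hgg] at h2
  exact acts_uniq hN h4 h1 h2

/-- elements with `A` scalar and `σ = 1` are trivial -/
theorem acts_triv (hN : N.Normal) (hc : Subgroup.centralizer (N : Set G) = ⊥) {e : N ≃* PS F} {g : G}
    {A : GL (Fin 2) F} (h : Acts e g A 1) (c : F)
    (hA : (A : Matrix (Fin 2) (Fin 2) F) = c • (1 : Matrix (Fin 2) (Fin 2) F)) : g = 1 := by
  apply acts_inj hN hc h
  exact acts_smul (acts_one e) c (by rw [hA]; rfl)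

/-- change of basis -/
theorem exists_chg (e : N ≃* PS F) (P : GL (Fin 2) F) :
    ∃ e' : N ≃* PS F, (∀ (n : N) (s s' : SL F), e n = QuotientGroup.mk s →
        (s' : Matrix (Fin 2) (Fin 2) F) = (P : Matrix (Fin 2) (Fin 2) F) * (s : Matrix (Fin 2) (Fin 2) F) *
          ((P⁻¹ : GL (Fin 2) F) : Matrix (Fin 2) (Fin 2) F) → e' n = QuotientGroup.mk s') ∧
      ∀ (g : G) (A : GL (Fin 2) F) (σ : F ≃+* F), Acts e g A σ → Acts e' g (P * A * (gmap σ P)⁻¹) σ := by
  have key : ∀ (n : N) (s s' : SL F), e n = QuotientGroup.mk s →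
        (s' : Matrix (Fin 2) (Fin 2) F) = (P : Matrix (Fin 2) (Fin 2) F) * (s : Matrix (Fin 2) (Fin 2) F) *
          ((P⁻¹ : GL (Fin 2) F) : Matrix (Fin 2) (Fin 2) F) →
        (e.trans (lift (cj P))) n = QuotientGroup.mk s' := by
    intro n s s' he hs
    rw [MulEquiv.trans_apply, he]
    change lift (cj P) (pr s) = pr s'
    rw [lift_pr]
    congr 1
    exact Subtype.ext hs.symm
  refine ⟨e.trans (lift (cj P)), key, ?_⟩
  intro g A σ h n n' s s' hn hs he
  -- `u = P⁻¹ s P`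
  set u : SL F := cj P⁻¹ s with hu
  set u' : SL F := (cj A * fld σ : MulAut (SL F)) u with hu'
  have h1 : e n = QuotientGroup.mk u := by
    have h2 : lift (cj P) (e n) = pr s := he
    have h3 : lift (cj P) (pr u) = pr s := by
      rw [lift_pr, hu, ← MulAut.mul_apply, ← map_mul, mul_inv_cancel, map_one, MulAut.one_apply]
    exact (lift (cj P)).injective (h2.trans h3.symm)
  have h4 := h n n' u u' hn rfl h1
  refine key n' u' s' h4 ?_
  have h5 : (cj (P * A * (gmap σ P)⁻¹) * fld σ : MulAut (SL F)) s = cj P u' := by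
    rw [hu', hu, ← MulAut.mul_apply, ← MulAut.mul_apply]
    congr 1
    rw [map_mul cj (P * A), map_mul cj P, mul_assoc (cj P) (cj A * fld σ), mul_assoc (cj A) (fld σ), fld_mul_cj,
      show gmap σ P⁻¹ = (gmap σ P)⁻¹ from map_inv _ _]
    simp only [mul_assoc]
  have h6 := congrArg Subtype.val h5
  rw [hs]
  exact h6

theorem fixL_chg {A : GL (Fin 2) F} {σ : F ≃+* F} {v : Fin 2 → F} (h : FixL A σ v) (P : GL (Fin 2) F) :
    FixL (P * A * (gmap σ P)⁻¹) σ ((P : Matrix (Fin 2) (Fin 2) F) *ᵥ v) := by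
  obtain ⟨c, hc⟩ := h
  refine ⟨c, ?_⟩
  rw [map_mulVec, Matrix.mulVec_mulVec]
  have h1 : ((P * A * (gmap σ P)⁻¹ : GL (Fin 2) F) : Matrix (Fin 2) (Fin 2) F) * (P : Matrix (Fin 2) (Fin 2) F).map σ =
      ((P * A : GL (Fin 2) F) : Matrix (Fin 2) (Fin 2) F) := by
    rw [← coe_gmap, ← Units.val_mul, inv_mul_cancel_right]
  rw [h1, Units.val_mul, ← Matrix.mulVec_mulVec, hc, Matrix.mulVec_smul]

end cn

end Cfsg.Agent.H183.RC
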