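import Cfsg.Agent.H183.RC.Sem
import Cfsg.Agent.H397.RC.FixBound

/-!
# S3510, row C, part E: elements without eigenvectors do not cover (helper183), given the character bound `hD` (part D)
-/

set_option autoImplicit false

namespace Cfsg.Agent.H183.RC

open Cfsg Matrix Cfsg.Agent.H106.RC MulAction

/-- numerical part -/
theorem ub_num {q S K m : ℕ} (hq : 4 ≤ q) (hS : 0 < S) (h1 : (q + 1) * K ≤ 2 * S)
    (h2 : (q - 1) * S + m * (2 * K) ≤ m * ((q - 1) * K + 2 * S)) (hm : 4 * m ≤ q) : False := by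
  obtain ⟨a, rfl⟩ : ∃ a, q = a + 4 := ⟨q - 4, by omega⟩
  have e1 : a + 4 - 1 = a + 3 := by omega
  rw [e1] at h2
  -- `(a+3) S ≤ m ((a+1) K + 2 S)`
  have h3 : (a + 3) * S ≤ m * ((a + 1) * K + 2 * S) := by
    have : m * ((a + 3) * K + 2 * S) = m * ((a + 1) * K + 2 * S) + m * (2 * K) := by ring
    omega
  have h4 : 4 * ((a + 3) * S) ≤ (a + 4) * ((a + 1) * K + 2 * S) := by
    calc 4 * ((a + 3) * S) ≤ 4 * (m * ((a + 1) * K + 2 * S)) := Nat.mul_le_mul_left _ h3
      _ = (4 * m) * ((a + 1) * K + 2 * S) := by ring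
      _ ≤ _ := Nat.mul_le_mul_right _ hm
  have h5 : (a + 5) * (4 * ((a + 3) * S)) ≤ (a + 4) * ((a + 1) * (2 * S) + 2 * ((a + 5) * S)) := by
    calc (a + 5) * (4 * ((a + 3) * S)) ≤ (a + 5) * ((a + 4) * ((a + 1) * K + 2 * S)) := Nat.mul_le_mul_left _ h4
      _ = (a + 4) * ((a + 1) * ((a + 4 + 1) * K) + 2 * ((a + 5) * S)) := by ring
      _ ≤ _ := Nat.mul_le_mul_left _ (Nat.add_le_add_right (Nat.mul_le_mul_left _ h1) _)
  have h6 : (a + 4) * ((a + 1) * (2 * S) + 2 * ((a + 5) * S)) + 4 * ((a + 3) * S) =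
      (a + 5) * (4 * ((a + 3) * S)) := by ring
  have h7 : 0 < 4 * ((a + 3) * S) := by positivity
  omega

theorem ub_of {G Ω F ι : Type*} [Group G] [Finite G] [MulAction G Ω] [Nonempty Ω] [Field F] [Fintype F]
    (hD : ∀ χ : Matrix.GeneralLinearGroup (Fin 2) F → ℂ,
      Cfsg.IsIrrCharacter (Matrix.GeneralLinearGroup (Fin 2) F) χ → χ 1 ≠ 1 →
      ∀ t : Matrix.GeneralLinearGroup (Fin 2) F, NoEig t → ((Fintype.card F : ℝ) - 1) * ‖χ t‖ ≤ 2 * ‖χ 1‖)
    {N : Subgroup G} (hE : Env G Ω N) (e : N ≃* PS F) (h4 : 4 ≤ Nat.card F)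
    [Finite ι] (x : ι → G) (t : ι → GL (Fin 2) F)
    (hx : ∀ i, Acts e (x i) (t i) 1) (ht : ∀ i, NoEig (t i)) (hn : 4 * Nat.card ι ≤ Nat.card F) :
    ∃ ω : Ω, ∀ i, x i • ω ≠ ω := by
  classical
  by_contra hcon
  push Not at hcon
  have hN := hE.norm
  have hcen := hE.cent
  obtain ⟨ω⟩ := (inferInstance : Nonempty Ω)
  let H : Subgroup (GL (Fin 2) F) :=
    { carrier := {g | ∃ y ∈ stabilizer G ω, Acts e y g 1}
      one_mem' := ⟨1, Subgroup.one_mem _, acts_one e⟩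
      mul_mem' := by
        rintro a b ⟨y, hy, ha⟩ ⟨z, hz, hb⟩
        refine ⟨y * z, Subgroup.mul_mem _ hy hz, ?_⟩
        have := acts_mul hN ha hb
        rwa [gmap_one, mul_one] at this
      inv_mem' := by
        rintro a ⟨y, hy, ha⟩
        refine ⟨y⁻¹, Subgroup.inv_mem _ hy, ?_⟩
        have := acts_inv hN ha
        rwa [inv_one, gmap_one] at this }
  let ns : SL F → G := fun s => (e.symm (QuotientGroup.mk s) : N)
  have hns : ∀ s, Acts e (ns s) (Matrix.SpecialLinearGroup.toGL s) 1 :=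
    fun s => acts_mem _ _ (e.apply_symm_apply _)
  have hH : ∀ (y : G) (g : GL (Fin 2) F), Acts e y g 1 → (g ∈ H ↔ y ∈ stabilizer G ω) := by
    intro y g hy
    constructor
    · rintro ⟨z, hz, hg⟩
      rwa [acts_inj hN hcen hy hg]
    · intro h
      exact ⟨y, h, hy⟩
  have hZ : ∀ (z : GL (Fin 2) F) (c : F), (z : Matrix (Fin 2) (Fin 2) F) = c • (1 : Matrix (Fin 2) (Fin 2) F) →
      z ∈ H := fun z c hz => ⟨1, Subgroup.one_mem _, acts_smul (acts_one e) c hz⟩
  have hS : ∃ s : SL F, Matrix.SpecialLinearGroup.toGL s ∉ H := by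
    by_contra hno
    push Not at hno
    apply hE.nofix ω
    intro n hn
    obtain ⟨s, hs⟩ := QuotientGroup.mk_surjective (e ⟨n, hn⟩)
    exact (hH n _ (acts_mem ⟨n, hn⟩ s hs.symm)).1 (hno s)
  obtain ⟨hb1, hb2⟩ := Cfsg.Agent.H397.RC.fix_bound_of (by omega) hD H hZ hS
  have hcf : Finite (GL (Fin 2) F) := inferInstance
  have := Fintype.ofFinite ι
  have := Fintype.ofFinite (SL F)
  set K := Nat.card {s : SL F // Matrix.SpecialLinearGroup.toGL s ∈ H} with hK
  set B : ι → ℕ := fun i => Nat.card {s : SL F // (Matrix.SpecialLinearGroup.toGL s)⁻¹ * t i *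
          Matrix.SpecialLinearGroup.toGL s ∈ H} with hB
  have hcover : ∀ s : SL F, ∃ i, (Matrix.SpecialLinearGroup.toGL s)⁻¹ * t i * Matrix.SpecialLinearGroup.toGL s ∈ H := by
    intro s
    obtain ⟨i, hi⟩ := hcon (ns s • ω)
    refine ⟨i, ?_⟩
    have h1 := acts_mul hN (acts_mul hN (acts_inv hN (hns s)) (hx i)) (hns s)
    rw [inv_one, one_mul, gmap_one, gmap_one, gmap_one, mul_one] at h1
    rw [hH _ _ h1, mem_stabilizer_iff, mul_smul, mul_smul, hi, inv_smul_smul]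
  have hsum : Nat.card (SL F) ≤ ∑ i, B i := by
    have h1 : (Finset.univ : Finset (SL F)) ⊆ Finset.univ.biUnion (fun i : ι => Finset.univ.filter fun s : SL F =>
        (Matrix.SpecialLinearGroup.toGL s)⁻¹ * t i * Matrix.SpecialLinearGroup.toGL s ∈ H) := by
      intro s _
      obtain ⟨i, hi⟩ := hcover s
      exact Finset.mem_biUnion.2 ⟨i, Finset.mem_univ _, Finset.mem_filter.2 ⟨Finset.mem_univ _, hi⟩⟩
    calc Nat.card (SL F) = (Finset.univ : Finset (SL F)).card := by rw [Nat.card_eq_fintype_card, Finset.card_univ]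
      _ ≤ _ := Finset.card_le_card h1
      _ ≤ _ := Finset.card_biUnion_le
      _ = ∑ i, B i := by
        apply Finset.sum_congr rfl
        intro i _
        rw [hB]
        simp only
        rw [Nat.card_eq_fintype_card, Fintype.card_subtype]
  have hpos : 0 < Nat.card (SL F) := Nat.card_pos
  refine ub_num (K := K) (m := Nat.card ι) h4 hpos hb1 ?_ hn
  have h2 : ∑ i, ((Nat.card F - 1) * B i + 2 * K) ≤ ∑ _i : ι, ((Nat.card F - 1) * K + 2 * Nat.card (SL F)) :=
    Finset.sum_le_sum fun i _ => hb2 (t i) (ht i)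
  rw [Finset.sum_add_distrib, ← Finset.mul_sum, Finset.sum_const, Finset.sum_const, Finset.card_univ,
    ← Nat.card_eq_fintype_card, smul_eq_mul, smul_eq_mul] at h2
  have h3 := Nat.mul_le_mul_left (Nat.card F - 1) hsum
  omega

end Cfsg.Agent.H183.RC
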