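import Cfsg.Agent.H183.RC.Sem

/-!
# S3510, row C: trace functional, transvections and torus of `PSL₂(F)` inside `G` (helper183)
-/

set_option autoImplicit false

namespace Cfsg.Agent.H183.RC

open Cfsg Matrix Cfsg.Agent.H106.RC
open Cfsg.Agent.ClassicalGeometry.AutPSL.Root

section tr

variable (F : Type*) [Field F] [Finite F]

/-- a Galois invariant functional -/
theorem exists_trace : ∃ T : F →+ ZMod (ringChar F), (∀ (σ : F ≃+* F) (a : F), T (σ a) = T a) ∧
    (∀ c : F, (∀ b, T (c * b) = 0) → c = 0) ∧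
    (∀ K : AddSubgroup F, K ≠ ⊤ → ∃ c : F, c ≠ 0 ∧ ∀ b ∈ K, T (c * b) = 0) := by
  have hp : Fact (ringChar F).Prime :=
    ⟨(CharP.char_is_prime_or_zero F (ringChar F)).resolve_right (CharP.char_ne_zero_of_finite F (ringChar F))⟩
  let _ : Algebra (ZMod (ringChar F)) F := ZMod.algebra F (ringChar F)
  have hfin : FiniteDimensional (ZMod (ringChar F)) F := Module.Finite.of_finite
  refine ⟨(Algebra.trace (ZMod (ringChar F)) F).toAddMonoidHom, ?_, ?_, ?_⟩
  · intro σ a
    let σ' : F ≃ₐ[ZMod (ringChar F)] F := AlgEquiv.ofRingEquiv (f := σ) (fun r =>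
      RingHom.congr_fun (Subsingleton.elim ((σ : F →+* F).comp (algebraMap (ZMod (ringChar F)) F))
        (algebraMap (ZMod (ringChar F)) F)) r)
    exact Algebra.trace_eq_of_algEquiv σ' a
  · intro c hc
    by_contra h0
    obtain ⟨b, hb⟩ := FiniteField.trace_to_zmod_nondegenerate F h0
    exact hb (hc b)
  · intro K hK
    let W : Submodule (ZMod (ringChar F)) F := AddSubgroup.toZModSubmodule (ringChar F) K
    have hW : W < ⊤ := by
      rw [lt_top_iff_ne_top]
      intro h
      apply hK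
      rw [eq_top_iff]
      intro b _
      have : b ∈ W := by rw [h]; trivial
      exact this
    obtain ⟨f, hf0, hf⟩ := Submodule.exists_le_ker_of_lt_top W hW
    let φ : F →ₗ[ZMod (ringChar F)] Module.Dual (ZMod (ringChar F)) F :=
      LinearMap.mk₂ (ZMod (ringChar F)) (fun c b => Algebra.trace (ZMod (ringChar F)) F (c * b))
        (fun a b c => by rw [add_mul, map_add]) (fun r a b => by rw [smul_mul_assoc, map_smul])
        (fun a b c => by rw [mul_add, map_add]) (fun r a b => by rw [mul_smul_comm, map_smul])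
    have hφ : Function.Injective φ := by
      rw [← LinearMap.ker_eq_bot, LinearMap.ker_eq_bot']
      intro c hc
      by_contra h0
      obtain ⟨b, hb⟩ := FiniteField.trace_to_zmod_nondegenerate F h0
      exact hb (LinearMap.congr_fun hc b)
    have hs : Function.Surjective φ :=
      (LinearMap.injective_iff_surjective_of_finrank_eq_finrank (Subspace.dual_finrank_eq).symm).1 hφ
    obtain ⟨c, rfl⟩ := hs f
    refine ⟨c, ?_, fun b hb => hf hb⟩
    rintro rfl
    exact hf0 (map_zero φ)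

end tr

section uni

variable {G F : Type*} [Group G] [Field F] {N : Subgroup G}

/-- `1 + b E₀₁` -/
def us (b : F) : SL F := ⟨!![1, b; 0, 1], by simp [Matrix.det_fin_two]⟩

theorem coe_us (b : F) : ((us b : SL F) : Matrix (Fin 2) (Fin 2) F) = !![1, b; 0, 1] := rfl

/-- `diag(s, s⁻¹)` -/
def ds (s : F) (hs : s ≠ 0) : SL F := ⟨!![s, 0; 0, s⁻¹], by simp [Matrix.det_fin_two, hs]⟩

theorem coe_ds (s : F) (hs : s ≠ 0) : ((ds s hs : SL F) : Matrix (Fin 2) (Fin 2) F) = !![s, 0; 0, s⁻¹] := rfl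

theorem us_add (a b : F) : us (a + b) = us a * us b := by
  apply Subtype.ext
  rw [Matrix.SpecialLinearGroup.coe_mul, coe_us, coe_us, coe_us, Matrix.mul_fin_two]
  simp [add_comm]

theorem us_zero : us (0 : F) = 1 := by
  apply Subtype.ext
  rw [coe_us, Matrix.SpecialLinearGroup.coe_one, Matrix.one_fin_two]

/-- the transvections as elements of `G` -/
noncomputable def unH (e : N ≃* PS F) : Multiplicative F →* G where
  toFun b := (e.symm (QuotientGroup.mk (us (Multiplicative.toAdd b))) : N)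
  map_one' := by
    change ((e.symm (QuotientGroup.mk (us (0 : F))) : N) : G) = 1
    rw [us_zero, QuotientGroup.mk_one, map_one]
    rfl
  map_mul' a b := by
    change ((e.symm (QuotientGroup.mk (us (Multiplicative.toAdd a + Multiplicative.toAdd b))) : N) : G) = _
    rw [us_add, QuotientGroup.mk_mul, map_mul]
    rfl

/-- the transvections as elements of `G` -/
noncomputable def un (e : N ≃* PS F) (b : F) : G := (e.symm (QuotientGroup.mk (us b)) : N)

theorem un_add (e : N ≃* PS F) (a b : F) : (un e (a + b) : G) = un e a * un e b :=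
  map_mul (unH e) (Multiplicative.ofAdd a) (Multiplicative.ofAdd b)

theorem un_zero (e : N ≃* PS F) : (un e 0 : G) = 1 := map_one (unH e)

theorem un_neg (e : N ≃* PS F) (a : F) : (un e (-a) : G) = (un e a)⁻¹ :=
  map_inv (unH e) (Multiplicative.ofAdd a)

theorem un_mem (e : N ≃* PS F) (b : F) : (un e b : G) ∈ N := (e.symm (QuotientGroup.mk (us b))).2

theorem un_one_ne (e : N ≃* PS F) : (un e 1 : G) ≠ 1 := by
  intro h
  have h1 : (e.symm (QuotientGroup.mk (us 1)) : N) = 1 := Subtype.ext h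
  have h2 : (pr (us (1 : F)) : PS F) = 1 := by
    have := congrArg e h1
    rw [e.apply_symm_apply, map_one] at this
    exact this
  rw [pr_eq_one_iff, Matrix.SpecialLinearGroup.mem_center_iff] at h2
  obtain ⟨r, -, hr⟩ := h2
  have h3 := congrFun (congrFun hr 0) 1
  rw [coe_us] at h3
  simp at h3

theorem diag_ne {A : GL (Fin 2) F} (h : (A : Matrix (Fin 2) (Fin 2) F) 1 0 = 0) :
    (A : Matrix (Fin 2) (Fin 2) F) 0 0 ≠ 0 ∧ (A : Matrix (Fin 2) (Fin 2) F) 1 1 ≠ 0 := by
  have h1 : (A : Matrix (Fin 2) (Fin 2) F).det ≠ 0 := A.det.ne_zero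
  rw [Matrix.det_fin_two, h, mul_zero, sub_zero] at h1
  exact ⟨left_ne_zero_of_mul h1, right_ne_zero_of_mul h1⟩

theorem acts_un (hN : N.Normal) {e : N ≃* PS F} {g : G} {A : GL (Fin 2) F} {σ : F ≃+* F} (h : Acts e g A σ)
    (hA : (A : Matrix (Fin 2) (Fin 2) F) 1 0 = 0) (b : F) :
    g * un e b * g⁻¹ =
      un e ((A : Matrix (Fin 2) (Fin 2) F) 0 0 / (A : Matrix (Fin 2) (Fin 2) F) 1 1 * σ b) := by
  obtain ⟨h0, h1⟩ := diag_ne hA
  have h2 := h ⟨un e b, un_mem e b⟩ ⟨g * un e b * g⁻¹, hN.conj_mem _ (un_mem e b) g⟩ (us b)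
    (us ((A : Matrix (Fin 2) (Fin 2) F) 0 0 / (A : Matrix (Fin 2) (Fin 2) F) 1 1 * σ b)) rfl ?_ ?_
  · have h3 := congrArg (fun z => ((e.symm z : N) : G)) h2
    simp only [e.symm_apply_apply] at h3
    exact h3
  · have h3 : (us ((A : Matrix (Fin 2) (Fin 2) F) 0 0 / (A : Matrix (Fin 2) (Fin 2) F) 1 1 * σ b) :
        Matrix (Fin 2) (Fin 2) F) * (A : Matrix (Fin 2) (Fin 2) F) =
        (A : Matrix (Fin 2) (Fin 2) F) * (us b : Matrix (Fin 2) (Fin 2) F).map σ := by
      rw [coe_us, coe_us]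
      ext i j
      fin_cases i <;> fin_cases j <;>
        simp [Matrix.mul_apply, Fin.sum_univ_two, hA, Matrix.map_apply]
      field_simp
      ring
    rw [← h3, mul_assoc, ← Units.val_mul, mul_inv_cancel, Units.val_one, mul_one]
  · change e (e.symm _) = _
    rw [e.apply_symm_apply]

/-- the torus as elements of `G` -/
noncomputable def dn (e : N ≃* PS F) (s : F) (hs : s ≠ 0) : G := (e.symm (QuotientGroup.mk (ds s hs)) : N)

theorem dn_un (hN : N.Normal) (e : N ≃* PS F) (s : F) (hs : s ≠ 0) (b : F) :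
    dn e s hs * un e b * (dn e s hs)⁻¹ = (un e (s ^ 2 * b) : G) := by
  have h1 : Acts e (dn e s hs : G) (Matrix.SpecialLinearGroup.toGL (ds s hs)) 1 :=
    acts_mem _ _ (e.apply_symm_apply _)
  rw [acts_un hN h1 rfl]
  congr 1
  change s / s⁻¹ * b = s ^ 2 * b
  rw [div_inv_eq_mul, pow_two]

theorem eq_un (hN : N.Normal) (hc : Subgroup.centralizer (N : Set G) = ⊥) {e : N ≃* PS F} {g : G} {A : GL (Fin 2) F}
    (h : Acts e g A 1) (hA : (A : Matrix (Fin 2) (Fin 2) F) 1 0 = 0)
    (hd : (A : Matrix (Fin 2) (Fin 2) F) 0 0 = (A : Matrix (Fin 2) (Fin 2) F) 1 1) :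
    g = un e ((A : Matrix (Fin 2) (Fin 2) F) 0 1 / (A : Matrix (Fin 2) (Fin 2) F) 0 0) := by
  obtain ⟨h0, h1⟩ := diag_ne hA
  apply acts_inj hN hc h
  have h2 : Acts e (un e ((A : Matrix (Fin 2) (Fin 2) F) 0 1 / (A : Matrix (Fin 2) (Fin 2) F) 0 0) : G)
    (Matrix.SpecialLinearGroup.toGL (us _)) 1 := acts_mem _ _ (e.apply_symm_apply _)
  refine acts_smul h2 ((A : Matrix (Fin 2) (Fin 2) F) 0 0) ?_
  change (A : Matrix (Fin 2) (Fin 2) F) = (A : Matrix (Fin 2) (Fin 2) F) 0 0 • !![1, _; 0, 1]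
  ext i j
  fin_cases i <;> fin_cases j <;> simp [hA, hd]
  field_simp

end uni

end Cfsg.Agent.H183.RC
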